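import Mathlib

/-!
# Open retracts of affine space and lifting of rational points to local rings (helper34)
-/

set_option autoImplicit false

universe u

open CategoryTheory CategoryTheory.Limits AlgebraicGeometry

noncomputable section

namespace Groth.Misc10Rat

variable {k : Type u} [Field k]

/-- A morphism from the spectrum of a local ring into a scheme factors through any open containing
the image of the closed point. -/
theorem range_subset_of_closedPoint_mem {A : Type u} [CommRing A] [IsLocalRing A] {Z : Scheme.{u}}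
    (G : Spec (CommRingCat.of A) ⟶ Z) (W : Z.Opens) (h : G (IsLocalRing.closedPoint A) ∈ W) :
    Set.range G ⊆ Set.range W.ι := by
  rintro _ ⟨p, rfl⟩
  rw [Scheme.Opens.range_ι]
  exact ((IsLocalRing.specializes_closedPoint p).map G.continuous).mem_open W.2 h

theorem lift_to_local {X : Scheme.{u}} (f : X ⟶ Spec (CommRingCat.of k)) (U : X.Opens) (n : ℕ)
    (Y : (Spec (CommRingCat.of (MvPolynomial (Fin n) k))).Opens)
    (a : (U : Scheme.{u}) ⟶ (Y : Scheme.{u})) (b : (Y : Scheme.{u}) ⟶ (U : Scheme.{u}))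
    (hab : a ≫ b = 𝟙 (U : Scheme.{u}))
    (ha : a ≫ Y.ι ≫ Spec.map (CommRingCat.ofHom (algebraMap k (MvPolynomial (Fin n) k))) = U.ι ≫ f)
    (hb : b ≫ U.ι ≫ f = Y.ι ≫ Spec.map (CommRingCat.ofHom (algebraMap k (MvPolynomial (Fin n) k))))
    (A : Type u) [CommRing A] [IsLocalRing A] [Algebra k A]
    (g : Spec (CommRingCat.of (IsLocalRing.ResidueField A)) ⟶ (U : Scheme.{u}))
    (hg : g ≫ U.ι ≫ f = Spec.map (CommRingCat.ofHom ((IsLocalRing.residue A).comp (algebraMap k A)))) :
    ∃ g' : Spec (CommRingCat.of A) ⟶ (U : Scheme.{u}),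
      Spec.map (CommRingCat.ofHom (IsLocalRing.residue A)) ≫ g' = g ∧
      g' ≫ U.ι ≫ f = Spec.map (CommRingCat.ofHom (algebraMap k A)) := by
  obtain ⟨χ, hχ⟩ := Spec.map_surjective (g ≫ a ≫ Y.ι)
  have hk : ∀ c : k, χ.hom (MvPolynomial.C c) = IsLocalRing.residue A (algebraMap k A c) := fun c => by
    have e : Spec.map (CommRingCat.ofHom (algebraMap k (MvPolynomial (Fin n) k)) ≫ χ) =
        Spec.map (CommRingCat.ofHom ((IsLocalRing.residue A).comp (algebraMap k A))) := by
      rw [Spec.map_comp, hχ, Category.assoc, Category.assoc, ha, hg]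
    exact RingHom.congr_fun (congrArg CommRingCat.Hom.hom (Spec.map_injective e)) c
  choose t ht using fun i => IsLocalRing.residue_surjective (χ.hom (MvPolynomial.X i))
  let χ' : MvPolynomial (Fin n) k →+* A := (MvPolynomial.aeval t).toRingHom
  have hres : (IsLocalRing.residue A).comp χ' = χ.hom := by
    refine MvPolynomial.ringHom_ext (fun c => ?_) (fun i => ?_)
    · rw [hk]; simp [χ']
    · simp [χ', ht]
  let G := Spec.map (CommRingCat.ofHom χ')
  have hG : Spec.map (CommRingCat.ofHom (IsLocalRing.residue A)) ≫ G = g ≫ a ≫ Y.ι := by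
    rw [← Spec.map_comp, ← CommRingCat.ofHom_comp, hres]
    exact hχ
  let pt : Spec (CommRingCat.of (IsLocalRing.ResidueField A)) :=
    IsLocalRing.closedPoint (IsLocalRing.ResidueField A)
  have hpt : Spec.map (CommRingCat.ofHom (IsLocalRing.residue A)) pt = IsLocalRing.closedPoint A := by
    have : IsLocalHom (IsLocalRing.residue A) := inferInstance
    exact IsLocalRing.comap_closedPoint (IsLocalRing.residue A)
  have hr := range_subset_of_closedPoint_mem G Y (by
    rw [← hpt, ← Scheme.Hom.comp_apply, hG, Scheme.Hom.comp_apply, Scheme.Hom.comp_apply]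
    exact (a (g pt)).2)
  let L := IsOpenImmersion.lift Y.ι G hr
  have hL : L ≫ Y.ι = G := IsOpenImmersion.lift_fac _ _ _
  refine ⟨L ≫ b, ?_, ?_⟩
  · have : Spec.map (CommRingCat.ofHom (IsLocalRing.residue A)) ≫ L = g ≫ a := by
      rw [← cancel_mono Y.ι, Category.assoc, hL, hG, Category.assoc]
    rw [← Category.assoc, this, Category.assoc, hab, Category.comp_id]
  · rw [Category.assoc, hb, ← Category.assoc, hL]
    show Spec.map _ ≫ Spec.map _ = _
    rw [← Spec.map_comp, ← CommRingCat.ofHom_comp]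
    congr 2
    exact RingHom.ext fun c => by simp [χ']

theorem exists_algebraic_retract {B : Type u} [CommRing B] [IsDomain B] [Algebra k B] {n : ℕ}
    (φ : MvPolynomial (Fin n) k →ₐ[k] B) (hφ : Function.Surjective φ)
    (I : Ideal (MvPolynomial (Fin n) k)) [I.IsPrime] (hI : I = RingHom.ker φ)
    (β : B →ₐ[k] Localization.AtPrime I)
    (hβ : ∀ p, IsLocalRing.residue _ (β (φ p)) =
      IsLocalRing.residue _ (algebraMap _ (Localization.AtPrime I) p)) :
    ∃ (s : B) (h : MvPolynomial (Fin n) k), s ≠ 0 ∧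
      ∃ (as : Localization.Away h →ₐ[k] Localization.Away s)
        (bs : Localization.Away s →ₐ[k] Localization.Away h), as.comp bs = AlgHom.id k _ := by
  classical
  let P := MvPolynomial (Fin n) k
  let A := Localization.AtPrime I
  choose v hv using fun i : Fin n => IsLocalization.surj I.primeCompl (β (φ (MvPolynomial.X i)))
  let q : P := ∏ i, ((v i).2 : P)
  have hq : q ∉ I := fun hq => by
    obtain ⟨i, -, hi⟩ := (Ideal.IsPrime.prod_mem_iff (p := I)).1 hq
    exact (v i).2.2 hi
  let num : Fin n → P := fun i => (v i).1 * ∏ j ∈ Finset.univ.erase i, ((v j).2 : P)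
  have hnum : ∀ i, β (φ (MvPolynomial.X i)) * algebraMap P A q = algebraMap P A (num i) := fun i => by
    have hq' : q = ((v i).2 : P) * ∏ j ∈ Finset.univ.erase i, ((v j).2 : P) :=
      (Finset.mul_prod_erase Finset.univ (fun j => ((v j).2 : P)) (Finset.mem_univ i)).symm
    rw [hq', map_mul, map_mul, ← mul_assoc, hv]
  let Pq := Localization.Away q
  let ι : Pq →ₐ[P] A := IsLocalization.liftAlgHom (M := Submonoid.powers q) (f := Algebra.ofId P A)
    (fun y => by
      obtain ⟨m, hm⟩ := y.2
      show IsUnit (algebraMap P A y)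
      rw [← hm, map_pow]
      exact (IsLocalization.map_units A (⟨q, hq⟩ : I.primeCompl)).pow m)
  have hιinj : Function.Injective ι := by
    show Function.Injective (IsLocalization.lift (M := Submonoid.powers q) _)
    rw [IsLocalization.lift_injective_iff]
    intro x y
    rw [(IsLocalization.injective Pq (M := Submonoid.powers q) (powers_le_nonZeroDivisors_of_noZeroDivisors
        (fun (e : q = 0) => hq (by rw [e]; exact I.zero_mem)))).eq_iff]
    exact ((IsLocalization.injective A I.primeCompl_le_nonZeroDivisors).eq_iff).symm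
  let γ : P →ₐ[k] Pq := MvPolynomial.aeval fun i =>
    algebraMap P Pq (num i) * IsLocalization.Away.invSelf q
  have hγ : (ι.restrictScalars k).comp γ = β.comp φ := by
    refine MvPolynomial.algHom_ext fun i => ?_
    refine (IsLocalization.map_units A (⟨q, hq⟩ : I.primeCompl)).mul_left_injective ?_
    show ι (γ (MvPolynomial.X i)) * algebraMap P A q = β (φ (MvPolynomial.X i)) * algebraMap P A q
    rw [hnum, MvPolynomial.aeval_X, ← ι.commutes q, ← map_mul, mul_assoc, mul_comm (IsLocalization.Away.invSelf q),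
      IsLocalization.Away.mul_invSelf, mul_one, ι.commutes]
  have hker : RingHom.ker φ ≤ RingHom.ker γ := fun p hp => hιinj (by
    rw [map_zero]
    exact (AlgHom.congr_fun hγ p).trans (by rw [AlgHom.comp_apply, RingHom.mem_ker.1 hp, map_zero]))
  let βq : B →ₐ[k] Pq := AlgHom.liftOfSurjective φ hφ γ hker
  have hβq : ∀ p, βq (φ p) = γ p := fun p => AlgHom.liftOfSurjective_apply φ hφ γ hker p
  obtain ⟨⟨r, ⟨_, m, rfl⟩⟩, hr⟩ := IsLocalization.surj (Submonoid.powers q) (γ q)
  let s := φ q
  let Bs := Localization.Away s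
  let φs : P →ₐ[k] Bs := (IsScalarTower.toAlgHom k B Bs).comp φ
  have hs : s ≠ 0 := fun e => hq (hI ▸ RingHom.mem_ker.2 e)
  let aq : Pq →ₐ[k] Bs := IsLocalization.liftAlgHom (M := Submonoid.powers q) (f := φs)
    (fun y => by
      obtain ⟨j, hj⟩ := y.2
      show IsUnit (algebraMap B Bs (φ y))
      rw [← hj, map_pow, map_pow]
      exact (IsLocalization.Away.algebraMap_isUnit s).pow j)
  have haq : ∀ p, aq (algebraMap P Pq p) = algebraMap B Bs (φ p) := fun p =>
    IsLocalization.lift_eq _ p
  have hAB : ∀ i, aq (γ (MvPolynomial.X i)) = φs (MvPolynomial.X i) := fun i => by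
    refine (IsLocalization.Away.algebraMap_isUnit (S := Bs) s).mul_left_injective ?_
    show aq _ * algebraMap B Bs (φ q) = φs _ * algebraMap B Bs (φ q)
    rw [← haq q, ← map_mul, MvPolynomial.aeval_X, mul_assoc, mul_comm (IsLocalization.Away.invSelf q),
      IsLocalization.Away.mul_invSelf, mul_one, haq, haq]
    refine (congrArg (algebraMap B Bs) ?_).trans (map_mul _ _ _)
    show φ (num i) = φ (MvPolynomial.X i) * φ q
    rw [← map_mul, ← sub_eq_zero, ← map_sub]
    refine RingHom.mem_ker.1 (hI ▸ (IsLocalization.AtPrime.to_map_mem_maximal_iff A I _).1 ?_ :)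
    rw [← IsLocalRing.residue_eq_zero_iff, map_sub, map_sub, sub_eq_zero, ← hnum, map_mul, hβ,
      ← map_mul, ← map_mul]
  have hABall : aq.comp γ = φs := MvPolynomial.algHom_ext hAB
  have hrs : algebraMap B Bs (φ r) = algebraMap B Bs s * algebraMap B Bs s ^ m := by
    have h := congrArg aq hr
    rw [map_mul, haq, haq, map_pow, map_pow] at h
    rw [← h]
    exact congrArg (· * _) (AlgHom.congr_fun hABall q)
  let h := q * r
  let Ph := Localization.Away h
  have hqu : IsUnit (algebraMap P Ph q) ∧ IsUnit (algebraMap P Ph r) := by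
    have := IsLocalization.Away.algebraMap_isUnit (S := Ph) h
    rw [map_mul] at this
    exact isUnit_of_mul_isUnit_left this |> fun a => ⟨a, isUnit_of_mul_isUnit_right this⟩
  let θ : Pq →ₐ[k] Ph := IsLocalization.liftAlgHom (M := Submonoid.powers q)
    (f := IsScalarTower.toAlgHom k P Ph) (fun y => by
      obtain ⟨j, hj⟩ := y.2
      show IsUnit (algebraMap P Ph y)
      rw [← hj, map_pow]
      exact hqu.1.pow j)
  have hθ : ∀ p, θ (algebraMap P Pq p) = algebraMap P Ph p := fun p => IsLocalization.lift_eq _ p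
  have hsu : IsUnit (θ (βq s)) := by
    rw [hβq]
    refine isUnit_of_mul_isUnit_left (y := algebraMap P Ph (q ^ m)) ?_
    rw [← hθ, ← map_mul, hr, hθ]
    exact hqu.2
  let bs : Bs →ₐ[k] Ph := IsLocalization.liftAlgHom (M := Submonoid.powers s) (f := θ.comp βq)
    (fun y => by
      obtain ⟨j, hj⟩ := y.2
      show IsUnit (θ (βq y))
      rw [← hj, map_pow, map_pow]
      exact hsu.pow j)
  let as : Ph →ₐ[k] Bs := IsLocalization.liftAlgHom (M := Submonoid.powers h) (f := φs)
    (fun y => by
      obtain ⟨j, hj⟩ := y.2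
      show IsUnit (algebraMap B Bs (φ y))
      rw [← hj, map_pow, map_pow]
      refine IsUnit.pow j ?_
      rw [map_mul, map_mul]
      refine (IsLocalization.Away.algebraMap_isUnit s).mul ?_
      rw [hrs]
      exact (IsLocalization.Away.algebraMap_isUnit s).mul ((IsLocalization.Away.algebraMap_isUnit s).pow m))
  refine ⟨s, h, hs, as, bs, ?_⟩
  refine IsLocalization.algHom_ext (Submonoid.powers s) (AlgHom.ext fun x => ?_)
  obtain ⟨p, rfl⟩ := hφ x
  show as (bs (algebraMap B Bs (φ p))) = algebraMap B Bs (φ p)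
  rw [show bs (algebraMap B Bs (φ p)) = θ (βq (φ p)) from IsLocalization.lift_eq _ _, hβq]
  have e : as.comp θ = aq := IsLocalization.algHom_ext (Submonoid.powers q) (AlgHom.ext fun p' => by
    show as (θ (algebraMap P Pq p')) = aq (algebraMap P Pq p')
    rw [hθ, haq]
    exact IsLocalization.lift_eq _ _)
  exact (AlgHom.congr_fun e _).trans (AlgHom.congr_fun hABall p)

theorem retract_of_lift {X : Scheme.{u}} [IsIntegral X] (f : X ⟶ Spec (CommRingCat.of k))
    [LocallyOfFiniteType f] (V : X.Opens) (hV : (V : Set X).Nonempty)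
    (hlift : ∀ (A : Type u) [CommRing A] [IsLocalRing A] [Algebra k A]
        (g : Spec (CommRingCat.of (IsLocalRing.ResidueField A)) ⟶ (V : Scheme.{u})),
        g ≫ V.ι ≫ f = Spec.map (CommRingCat.ofHom ((IsLocalRing.residue A).comp (algebraMap k A))) →
        ∃ g' : Spec (CommRingCat.of A) ⟶ (V : Scheme.{u}),
          Spec.map (CommRingCat.ofHom (IsLocalRing.residue A)) ≫ g' = g ∧
          g' ≫ V.ι ≫ f = Spec.map (CommRingCat.ofHom (algebraMap k A))) :
    ∃ (U : X.Opens) (n : ℕ) (Y : (Spec (CommRingCat.of (MvPolynomial (Fin n) k))).Opens)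
        (a : (U : Scheme.{u}) ⟶ (Y : Scheme.{u})) (b : (Y : Scheme.{u}) ⟶ (U : Scheme.{u})),
        (U : Set X).Nonempty ∧ a ≫ b = 𝟙 (U : Scheme.{u}) ∧
        a ≫ Y.ι ≫ Spec.map (CommRingCat.ofHom (algebraMap k (MvPolynomial (Fin n) k))) = U.ι ≫ f ∧
        b ≫ U.ι ≫ f = Y.ι ≫ Spec.map (CommRingCat.ofHom (algebraMap k (MvPolynomial (Fin n) k))) := by
  obtain ⟨x, hx⟩ := hV
  obtain ⟨W, hW, hxW, hWV⟩ :=
    (TopologicalSpace.Opens.isBasis_iff_nbhd.1 X.isBasis_affineOpens) hx
  have : Nonempty W := ⟨⟨x, hxW⟩⟩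
  let j : Spec (CommRingCat.of Γ(X, W)) ⟶ X := hW.fromSpec
  have : IsOpenImmersion j := hW.isOpenImmersion_fromSpec
  obtain ⟨σ, hσ⟩ := Spec.map_surjective (j ≫ f)
  let _ : Algebra k Γ(X, W) := σ.hom.toAlgebra
  have hjf : j ≫ f = Spec.map (CommRingCat.ofHom (algebraMap k Γ(X, W))) := hσ.symm
  have : Algebra.FiniteType k Γ(X, W) := by
    have h : LocallyOfFiniteType (Spec.map σ) := by rw [hσ]; infer_instance
    exact (HasRingHomProperty.Spec_iff (P := @LocallyOfFiniteType)).1 h
  obtain ⟨n, φ, hφ⟩ := Algebra.FiniteType.iff_quotient_mvPolynomial''.1 this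
  let I := RingHom.ker φ
  have : I.IsPrime := RingHom.ker_isPrime _
  let A := Localization.AtPrime I
  let ρ : MvPolynomial (Fin n) k →ₐ[k] IsLocalRing.ResidueField A :=
    IsScalarTower.toAlgHom k _ _
  have hρ : RingHom.ker φ ≤ RingHom.ker ρ := fun p hp => by
    show IsLocalRing.residue A (algebraMap _ A p) = 0
    rw [IsLocalRing.residue_eq_zero_iff]
    exact (IsLocalization.AtPrime.to_map_mem_maximal_iff A I p).2 hp
  let κ : Γ(X, W) →ₐ[k] IsLocalRing.ResidueField A := AlgHom.liftOfSurjective φ hφ ρ hρ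
  have hκ : ∀ p, κ (φ p) = ρ p := fun p => AlgHom.liftOfSurjective_apply φ hφ ρ hρ p
  have hjr : Set.range j ⊆ Set.range V.ι := by
    rw [Scheme.Opens.range_ι, hW.range_fromSpec]
    exact hWV
  let jV := IsOpenImmersion.lift V.ι j hjr
  have hjV : jV ≫ V.ι = j := IsOpenImmersion.lift_fac _ _ _
  obtain ⟨g', hg', hg'f⟩ := hlift A (Spec.map (CommRingCat.ofHom κ.toRingHom) ≫ jV) (by
    rw [Category.assoc, reassoc_of% hjV, hjf, ← Spec.map_comp, ← CommRingCat.ofHom_comp]
    congr 2
    exact RingHom.ext fun c => (κ.commutes c).trans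
      (IsScalarTower.algebraMap_apply k A (IsLocalRing.ResidueField A) c))
  have hr : Set.range (g' ≫ V.ι) ⊆ Set.range j := by
    rw [hW.range_fromSpec, ← Scheme.Opens.range_ι W]
    refine range_subset_of_closedPoint_mem _ W ?_
    let pt : Spec (CommRingCat.of (IsLocalRing.ResidueField A)) :=
      IsLocalRing.closedPoint (IsLocalRing.ResidueField A)
    have hpt : Spec.map (CommRingCat.ofHom (IsLocalRing.residue A)) pt = IsLocalRing.closedPoint A := by
      have : IsLocalHom (IsLocalRing.residue A) := inferInstance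
      exact IsLocalRing.comap_closedPoint (IsLocalRing.residue A)
    rw [← hpt, ← Scheme.Hom.comp_apply, ← Category.assoc, hg', Category.assoc, hjV, Scheme.Hom.comp_apply]
    exact (Set.ext_iff.1 hW.range_fromSpec _).1 ⟨_, rfl⟩
  let L := IsOpenImmersion.lift j (g' ≫ V.ι) hr
  have hL : L ≫ j = g' ≫ V.ι := IsOpenImmersion.lift_fac _ _ _
  obtain ⟨β₀, hβ₀⟩ := Spec.map_surjective L
  have hβk : ∀ c, β₀.hom (algebraMap k Γ(X, W) c) = algebraMap k A c := fun c => by
    have e : Spec.map (CommRingCat.ofHom (algebraMap k Γ(X, W)) ≫ β₀) =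
        Spec.map (CommRingCat.ofHom (algebraMap k A)) := by
      rw [Spec.map_comp, hβ₀, ← hjf, reassoc_of% hL, hg'f]
    exact RingHom.congr_fun (congrArg CommRingCat.Hom.hom (Spec.map_injective e)) c
  let β : Γ(X, W) →ₐ[k] A := { β₀.hom with commutes' := hβk }
  have hres : ∀ y, IsLocalRing.residue A (β y) = κ y := fun y => by
    have e : Spec.map (β₀ ≫ CommRingCat.ofHom (IsLocalRing.residue A)) =
        Spec.map (CommRingCat.ofHom κ.toRingHom) := by
      rw [← cancel_mono j, Spec.map_comp, hβ₀, Category.assoc, hL, ← Category.assoc, hg', Category.assoc,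
        hjV]
    exact RingHom.congr_fun (congrArg CommRingCat.Hom.hom (Spec.map_injective e)) y
  obtain ⟨s, h, hs, as, bs, hab⟩ := exists_algebraic_retract φ hφ I rfl β
    fun p => (hres (φ p)).trans (hκ p)
  let uX : Spec (CommRingCat.of (Localization.Away s)) ⟶ X :=
    Spec.map (CommRingCat.ofHom (algebraMap Γ(X, W) (Localization.Away s))) ≫ j
  let vP : Spec (CommRingCat.of (Localization.Away h)) ⟶
      Spec (CommRingCat.of (MvPolynomial (Fin n) k)) :=
    Spec.map (CommRingCat.ofHom (algebraMap (MvPolynomial (Fin n) k) (Localization.Away h)))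
  have h₁ : IsOpenImmersion (Spec.map (CommRingCat.ofHom (algebraMap Γ(X, W) (Localization.Away s)))) :=
    IsOpenImmersion.of_isLocalization s
  have : IsOpenImmersion uX := inferInstance
  have : IsOpenImmersion vP := IsOpenImmersion.of_isLocalization h
  have hu : uX ≫ f = Spec.map (CommRingCat.ofHom (algebraMap k (Localization.Away s))) := by
    rw [Category.assoc, hjf, ← Spec.map_comp, ← CommRingCat.ofHom_comp,
      ← IsScalarTower.algebraMap_eq]
  have hv : vP ≫ Spec.map (CommRingCat.ofHom (algebraMap k (MvPolynomial (Fin n) k))) =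
      Spec.map (CommRingCat.ofHom (algebraMap k (Localization.Away h))) := by
    rw [← Spec.map_comp, ← CommRingCat.ofHom_comp, ← IsScalarTower.algebraMap_eq]
  have ha : Spec.map (CommRingCat.ofHom as.toRingHom) ≫
      Spec.map (CommRingCat.ofHom (algebraMap k (Localization.Away h))) =
      Spec.map (CommRingCat.ofHom (algebraMap k (Localization.Away s))) := by
    rw [← Spec.map_comp, ← CommRingCat.ofHom_comp]
    exact congrArg (fun t => Spec.map (CommRingCat.ofHom t)) as.comp_algebraMap
  have hb : Spec.map (CommRingCat.ofHom bs.toRingHom) ≫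
      Spec.map (CommRingCat.ofHom (algebraMap k (Localization.Away s))) =
      Spec.map (CommRingCat.ofHom (algebraMap k (Localization.Away h))) := by
    rw [← Spec.map_comp, ← CommRingCat.ofHom_comp]
    exact congrArg (fun t => Spec.map (CommRingCat.ofHom t)) bs.comp_algebraMap
  refine ⟨uX.opensRange, n, vP.opensRange,
    uX.isoOpensRange.inv ≫ Spec.map (CommRingCat.ofHom as.toRingHom) ≫ vP.isoOpensRange.hom,
    vP.isoOpensRange.inv ≫ Spec.map (CommRingCat.ofHom bs.toRingHom) ≫ uX.isoOpensRange.hom,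
    ?_, ?_, ?_, ?_⟩
  · have : Nontrivial (Localization.Away s) :=
      (IsLocalization.injective (Localization.Away s) (M := Submonoid.powers s)
        (powers_le_nonZeroDivisors_of_noZeroDivisors hs)).nontrivial
    obtain ⟨z⟩ := (inferInstance : Nonempty (PrimeSpectrum (Localization.Away s)))
    exact ⟨uX z, z, rfl⟩
  · simp only [Category.assoc, Iso.hom_inv_id_assoc]
    rw [← Category.assoc (Spec.map _) (Spec.map _), ← Spec.map_comp, ← CommRingCat.ofHom_comp,
      show as.toRingHom.comp bs.toRingHom = RingHom.id _ from congrArg AlgHom.toRingHom hab]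
    simp
  · simp only [Category.assoc]
    rw [← Category.assoc vP.isoOpensRange.hom, vP.isoOpensRange_hom_ι, hv, ha, ← hu,
      ← Category.assoc, uX.isoOpensRange_inv_comp]
  · simp only [Category.assoc]
    rw [← Category.assoc uX.isoOpensRange.hom, uX.isoOpensRange_hom_ι, hu, hb, ← hv,
      ← Category.assoc, vP.isoOpensRange_inv_comp]

end Groth.Misc10Rat
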